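import Groth.Prelude.Def_StCoh
import Groth.Agent.Reductive.Points
import Groth.Agent.StkGerb.Relative
import Mathlib.CategoryTheory.Sites.EpiMono
import Mathlib.RingTheory.AdjoinRoot
import Mathlib.AlgebraicGeometry.Morphisms.Flat
import Mathlib.AlgebraicGeometry.Morphisms.FinitePresentation
import Mathlib.AlgebraicGeometry.Sites.Fpqc

/-!
# The Kummer sequence on a category fibred in groupoids, fppf topology
-/

set_option autoImplicit false
set_option backward.isDefEq.respectTransparency false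
set_option backward.isDefEq.respectTransparency.types false

universe u

open CategoryTheory CategoryTheory.Limits AlgebraicGeometry Opposite Abelian
open CategoryTheory.MonObj
open scoped CategoryTheory.Obj

namespace Groth.StkKummer

variable {S : Scheme.{u}}

/-- A unit has an `n`-th root fppf locally. -/
theorem exists_fppf_root (T : Over S) (t : T ⟶ Red.Gm S) {n : ℕ} (hn : 0 < n) :
    ∃ (V : Over S) (g : V ⟶ T) (r : V ⟶ Red.Gm S), r ^ n = g ≫ t ∧
      Sieve.generate (Presieve.singleton g) ∈ QuotSh.J Scheme.fppfPrecoverage S T := by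
  let A := Γ(T.left, ⊤)
  let a : A := Red.gmFn t
  let q : Polynomial A := Polynomial.X ^ n - Polynomial.C a
  have hq : q.Monic := Polynomial.monic_X_pow_sub_C _ hn.ne'
  let B := AdjoinRoot q
  let φ : CommRingCat.of A ⟶ CommRingCat.of B := CommRingCat.ofHom (algebraMap A B)
  have hfree : Module.Free A B := hq.free_adjoinRoot
  have hfin : Module.Finite A B := hq.finite_adjoinRoot
  let g₀ := pullback.fst T.left.toSpecΓ (Spec.map φ)
  have hflat : Flat (Spec.map φ) := Flat.SpecMap_iff.2 (RingHom.flat_algebraMap_iff.2 inferInstance)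
  have hfp : LocallyOfFinitePresentation (Spec.map φ) :=
    (HasRingHomProperty.Spec_iff (P := @LocallyOfFinitePresentation)).2
      (RingHom.finitePresentation_algebraMap.2 inferInstance)
  have hsurj : Surjective (Spec.map φ) := by
    rcases subsingleton_or_nontrivial A with hA | hA
    · have : IsEmpty ↥(Spec (CommRingCat.of A)) := inferInstanceAs (IsEmpty (PrimeSpectrum A))
      exact ⟨fun p => isEmptyElim p⟩
    · have hd : 0 < q.natDegree := by rwa [Polynomial.natDegree_X_pow_sub_C]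
      have : Nonempty (Fin q.natDegree) := ⟨⟨0, hd⟩⟩
      have : Nontrivial (CommRingCat.of A) := inferInstanceAs (Nontrivial A)
      let i₀ : Fin (AdjoinRoot.powerBasis' hq).dim := ⟨0, hd⟩
      have : Nontrivial B := nontrivial_of_ne _ _ ((AdjoinRoot.powerBasis' hq).basis.ne_zero i₀)
      have : Module.FaithfullyFlat A B := inferInstance
      exact ⟨fun p => PrimeSpectrum.comap_surjective_of_faithfullyFlat p⟩
  have : Flat g₀ := MorphismProperty.pullback_fst _ _ hflat
  have : LocallyOfFinitePresentation g₀ := MorphismProperty.pullback_fst _ _ hfp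
  have : Surjective g₀ := MorphismProperty.pullback_fst _ _ hsurj
  let snd₀ := pullback.snd T.left.toSpecΓ (Spec.map φ)
  let V : Over S := Over.mk (g₀ ≫ T.hom)
  let g : V ⟶ T := Over.homMk g₀ rfl
  let r₀ : Γ(V.left, ⊤) := snd₀.appTop ((Scheme.ΓSpecIso (CommRingCat.of B)).inv (AdjoinRoot.root q))
  have hr : r₀ ^ n = g₀.appTop a := by
    have e₁ : (AdjoinRoot.root q) ^ n = algebraMap A B a := by
      have h := AdjoinRoot.eval₂_root q
      simp only [q, Polynomial.eval₂_sub, Polynomial.eval₂_pow, Polynomial.eval₂_X, Polynomial.eval₂_C,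
        sub_eq_zero] at h
      exact h
    have e₂ : (Scheme.ΓSpecIso (CommRingCat.of A)).inv ≫ T.left.toSpecΓ.appTop ≫ g₀.appTop =
        φ ≫ (Scheme.ΓSpecIso (CommRingCat.of B)).inv ≫ snd₀.appTop := by
      rw [Scheme.ΓSpecIso_inv_naturality_assoc, ← Scheme.Hom.comp_appTop, ← Scheme.Hom.comp_appTop]
      exact congrArg (fun m => _ ≫ Scheme.Hom.appTop m) pullback.condition
    have e₃ : (Scheme.ΓSpecIso (CommRingCat.of A)).inv ≫ T.left.toSpecΓ.appTop = 𝟙 _ := by
      rw [Scheme.toSpecΓ_appTop]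
      exact (Scheme.ΓSpecIso _).inv_hom_id
    rw [reassoc_of% e₃] at e₂
    have e₄ := ConcreteCategory.congr_hom e₂ a
    refine Eq.trans ?_ e₄.symm
    change r₀ ^ n = snd₀.appTop ((Scheme.ΓSpecIso (CommRingCat.of B)).inv (algebraMap A B a))
    rw [← e₁, map_pow, map_pow]
  have hu : IsUnit r₀ := (isUnit_pow_iff hn.ne').1 (hr ▸ (Reductive.isUnit_gmFn t).map g₀.appTop.hom)
  refine ⟨V, g, Reductive.gmMk V hu.unit, Reductive.gmFn_injective ?_, ?_⟩
  · rw [Reductive.gmFn_pow, Reductive.gmFn_gmMk, Reductive.gmFn_comp]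
    exact hr
  · rw [GrothendieckTopology.mem_over_iff]
    refine GrothendieckTopology.superset_covering _ ?_
      (Precoverage.generate_mem_toGrothendieck (R := Presieve.singleton g₀) ?_)
    · rw [Sieve.generate_le_iff]
      rintro _ _ ⟨⟩
      exact ⟨V, g, 𝟙 _, ⟨V, 𝟙 _, g, ⟨⟩, by simp⟩, by simp [g]⟩
    · have e : Presieve.singleton g₀ = Presieve.ofArrows _ (fun _ : PUnit.{u + 1} => g₀) :=
        (Presieve.ofArrows_pUnit g₀).symm
      rw [Scheme.fppfPrecoverage, e, Scheme.ofArrows_mem_precoverage_iff]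
      exact ⟨fun x => ⟨PUnit.unit, g₀.surjective x⟩, fun _ => ⟨inferInstance, inferInstance⟩⟩

variable (𝒳 : AlgSt.Cat S) [StCoh.BaseCont Scheme.fppfPrecoverage 𝒳]

theorem nsmul_app {F G : StCoh.Ab Scheme.fppfPrecoverage 𝒳} (f : F ⟶ G) (n : ℕ) (x : 𝒳.objᵒᵖ)
    (s : F.obj.obj x) : ((n • f : F ⟶ G).hom.app x) s = n • (f.hom.app x s) := by
  induction n with
  | zero => simp
  | succ n ih => rw [succ_nsmul, succ_nsmul, ← ih]; rfl

/-- The `n`-th power map on `G_m` is an epimorphism of fppf sheaves. -/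
theorem epi_powMap (h𝒳 : FibCat.IsFibGrpd 𝒳.p) {n : ℕ} (hn : 0 < n) :
    Epi (StCoh.powMap Scheme.fppfPrecoverage 𝒳 n) := by
  have : Sheaf.IsLocallySurjective (StCoh.powMap Scheme.fppfPrecoverage 𝒳 n) := by
    constructor
    intro x s
    obtain ⟨V, g, r, hr, hR⟩ := exists_fppf_root (𝒳.p.obj x) s.down.toMul hn
    refine GrothendieckTopology.superset_covering _ ?_
      (Groth.StkGerb.mem_restrictedTopology (y := x) h𝒳 hR)
    rintro y l ⟨W, h, m, ⟨⟩, e⟩
    refine ⟨ULift.up (Additive.ofMul (h ≫ r)), ?_⟩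
    refine (nsmul_app 𝒳 _ n (op y) _).trans ?_
    change ULift.up (Additive.ofMul ((h ≫ r) ^ n)) = ULift.up (Additive.ofMul (𝒳.p.map l ≫ s.down.toMul))
    rw [← e, ← MonObj.comp_pow, hr, Category.assoc]
  exact (Sheaf.isLocallySurjective_iff_epi' (φ := StCoh.powMap Scheme.fppfPrecoverage 𝒳 n)).1 this

/-- The Kummer short exact sequence. -/
theorem shortExact (h𝒳 : FibCat.IsFibGrpd 𝒳.p) {n : ℕ} (hn : 0 < n) :
    (ShortComplex.mk (StCoh.muι Scheme.fppfPrecoverage 𝒳 n) (StCoh.powMap Scheme.fppfPrecoverage 𝒳 n)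
      (kernel.condition _)).ShortExact :=
  have := epi_powMap 𝒳 h𝒳 hn
  { exact := ShortComplex.exact_of_f_is_kernel _ (kernelIsKernel _)
    mono_f := inferInstanceAs (Mono (kernel.ι _))
    epi_g := this }

end Groth.StkKummer

namespace Groth.StkKummer

variable {C : Type*} [Category C] [Abelian C] [HasExt C]

theorem comp_mk₀_nsmul_id {X F : C} (n : ℕ) {i : ℕ} (ξ : Ext X F i) :
    ξ.comp (Ext.mk₀ (n • 𝟙 F)) (add_zero i) = n • ξ := by
  induction n with
  | zero => simp
  | succ n ih => rw [succ_nsmul, succ_nsmul, Ext.mk₀_add, Ext.comp_add, ih, Ext.comp_mk₀_id]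

/-- The long exact `Ext` sequence of a short exact sequence whose second map is multiplication by `n`. -/
theorem range_ker_of_shortExact {M F : C} (m₀ : M ⟶ F) (n : ℕ) (g : F ⟶ F) (hg : g = n • 𝟙 F)
    (w : m₀ ≫ g = 0) (hse : (ShortComplex.mk m₀ g w).ShortExact) (X : C) (i : ℕ) :
    ((Ext.mk₀ m₀).postcomp X (add_zero (i + 1))).range =
        (DistribSMul.toAddMonoidHom (Ext X F (i + 1)) n).ker ∧
      Nonempty (((Ext.mk₀ m₀).postcomp X (add_zero (i + 1))).ker ≃+
        Ext X F i ⧸ (DistribSMul.toAddMonoidHom (Ext X F i) n).range) := by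
  have hpow : ∀ {j : ℕ} (ξ : Ext X F j), ξ.comp (Ext.mk₀ g) (add_zero j) = n • ξ := fun ξ => by
    rw [hg, comp_mk₀_nsmul_id]
  let δ : Ext X F i →+ ((Ext.mk₀ m₀).postcomp X (add_zero (i + 1))).ker :=
    (hse.extClass.postcomp X (rfl : i + 1 = i + 1)).codRestrict _ fun ξ => by
      change (ξ.comp hse.extClass rfl).comp (Ext.mk₀ m₀) (add_zero (i + 1)) = 0
      rw [Ext.comp_assoc_of_third_deg_zero, hse.extClass_comp, Ext.comp_zero]
  have hδs : Function.Surjective δ := fun ⟨z, hz⟩ => by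
    obtain ⟨ξ, hξ⟩ := Ext.covariant_sequence_exact₁ _ hse z hz rfl
    exact ⟨ξ, Subtype.ext hξ⟩
  have hδk : (DistribSMul.toAddMonoidHom (Ext X F i) n).range = δ.ker := by
    ext ξ
    constructor
    · rintro ⟨z, rfl⟩
      refine Subtype.ext ?_
      change (n • z).comp hse.extClass rfl = 0
      rw [← hpow, Ext.comp_assoc_of_second_deg_zero, hse.comp_extClass, Ext.comp_zero]
    · intro h
      obtain ⟨z, hz⟩ := Ext.covariant_sequence_exact₃ _ hse ξ rfl (congrArg Subtype.val h)
      exact ⟨z, (hpow z).symm.trans hz⟩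
  refine ⟨?_, ⟨((QuotientAddGroup.quotientAddEquivOfEq hδk).trans
    (QuotientAddGroup.quotientKerEquivOfSurjective δ hδs)).symm⟩⟩
  ext ξ
  constructor
  · rintro ⟨z, rfl⟩
    change n • (z.comp (Ext.mk₀ m₀) (add_zero (i + 1))) = 0
    rw [← hpow, Ext.comp_assoc_of_third_deg_zero, Ext.mk₀_comp_mk₀, w, Ext.mk₀_zero, Ext.comp_zero]
  · intro h
    obtain ⟨z, hz⟩ := Ext.covariant_sequence_exact₂ _ hse ξ ((hpow ξ).trans h)
    exact ⟨z, hz⟩

end Groth.StkKummer
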